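import Groth.Agent.Lib.CMFree.FiniteFlat
import Groth.Agent.Lib.HB26.Spread
import Mathlib

/-!
# Polynomial rings over Cohen–Macaulay rings are Cohen–Macaulay
-/

universe u

open IsLocalRing RingTheory.Sequence Polynomial

namespace GrothLib.CMPoly

/-- A Cohen–Macaulay local ring has a weakly regular sequence of length its dimension. -/
theorem exists_weaklyRegular (R : Type u) [CommRing R] [LocCoh.IsCohenMacaulayLocalRing R] :
    ∃ rs : List R, IsWeaklyRegular R rs ∧ (∀ r ∈ rs, r ∈ maximalIdeal R) ∧
      ringKrullDim R ≤ (rs.length : WithBot ℕ∞) := by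
  have h := LocCoh.IsCohenMacaulayLocalRing.supportDim_eq_depth (R := R)
  rw [Module.supportDim_self_eq_ringKrullDim] at h
  have hne : maximalIdeal R • (⊤ : Submodule R R) ≠ ⊤ := by
    rw [smul_eq_mul, Ideal.mul_top]
    exact (maximalIdeal.isMaximal R).ne_top
  obtain ⟨n, hn⟩ : ∃ n : ℕ, (LocCoh.depth R R : ℕ∞) = n := by
    have := ringKrullDim_lt_top (R := R)
    rw [h] at this
    exact ⟨_, (ENat.coe_toNat (ne_of_lt (WithBot.coe_lt_coe.1 this))).symm⟩
  rw [h, hn]
  cases n with
  | zero => exact ⟨[], IsWeaklyRegular.nil _ _, by simp, by simp⟩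
  | succ n =>
    have h1 : (n : ℕ∞) < LocCoh.depth R R := by rw [hn]; exact_mod_cast n.lt_succ_self
    unfold LocCoh.depth LocCoh.idealDepth at h1
    rw [if_neg hne] at h1
    obtain ⟨rs, hrs⟩ := lt_iSup_iff.1 h1
    obtain ⟨hrs, hlt⟩ := lt_iSup_iff.1 hrs
    refine ⟨rs, hrs.1, hrs.2, ?_⟩
    have : n + 1 ≤ rs.length := by exact_mod_cast hlt
    exact_mod_cast this

theorem isCohenMacaulayLocalRing_atPrime_of_comap_eq_maximalIdeal (R : Type u) [CommRing R]
    [LocCoh.IsCohenMacaulayLocalRing R] (p : Ideal R[X]) [p.IsPrime]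
    (max : p.comap C = maximalIdeal R) :
    LocCoh.IsCohenMacaulayLocalRing (Localization.AtPrime p) := by
  obtain ⟨rs, hrs, hmem, hlen⟩ := exists_weaklyRegular R
  let S := Localization.AtPrime p
  have : Module.Flat R S := Module.Flat.trans R R[X] S
  have hq : (maximalIdeal R).map C ≤ p := by rw [Ideal.map_le_iff_le_comap, max]
  have h1 : IsWeaklyRegular S (rs.map (algebraMap R S)) := hrs.of_flat
  have halg : ∀ r, algebraMap R S r = algebraMap R[X] S (C r) := fun r =>
    IsScalarTower.algebraMap_apply R R[X] S r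
  have hin : ∀ f ∈ p, algebraMap R[X] S f ∈ maximalIdeal S := fun f hf => by
    rw [← Localization.AtPrime.map_eq_maximalIdeal]
    exact Ideal.mem_map_of_mem _ hf
  have hmem1 : ∀ r ∈ rs.map (algebraMap R S), r ∈ maximalIdeal S := by
    intro r hr
    obtain ⟨s, hs, rfl⟩ := List.mem_map.1 hr
    rw [halg]
    exact hin _ (hq (Ideal.mem_map_of_mem C (hmem s hs)))
  have hdim : ringKrullDim S = p.height := IsLocalization.AtPrime.ringKrullDim_eq_height p S
  by_cases heq : p = (maximalIdeal R).map C
  · refine CMFree.isCohenMacaulayLocalRing_of_weaklyRegular S _ h1 hmem1 ?_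
    rw [List.length_map, hdim, heq, Polynomial.height_map_C, maximalIdeal_height_eq_ringKrullDim]
    exact hlen
  · have hcm : (Ideal.comap C p).IsMaximal := by rw [max]; exact maximalIdeal.isMaximal R
    obtain ⟨y, hy, hpy⟩ := Polynomial.exists_monic_span_sup_map_eq R p hcm (by rw [max]; exact heq)
    have hyp : y ∈ p := by
      rw [hpy]
      exact Ideal.mem_sup_right (Ideal.mem_span_singleton_self y)
    have : (maximalIdeal R).IsMaximal := maximalIdeal.isMaximal R
    have : p.LiesOver (maximalIdeal R) := ⟨max.symm⟩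
    have hht : p.height ≤ (maximalIdeal R).height + 1 := by
      obtain ⟨P, hP, hpP⟩ := Ideal.exists_le_maximal p (Ideal.IsPrime.ne_top ‹_›)
      have hPm : P.comap C = maximalIdeal R :=
        le_antisymm (le_maximalIdeal (Ideal.IsPrime.ne_top (Ideal.comap_isPrime C P)))
          (max ▸ Ideal.comap_mono hpP)
      have : P.LiesOver (maximalIdeal R) := ⟨hPm.symm⟩
      exact (Ideal.height_mono hpP).trans (Polynomial.height_eq_height_add_one (maximalIdeal R) P).le
    refine CMFree.isCohenMacaulayLocalRing_of_weaklyRegular S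
      (rs.map (algebraMap R S) ++ [algebraMap R[X] S y]) ?_ ?_ ?_
    · refine (isWeaklyRegular_append_iff _ _ _).2 ⟨h1, (isWeaklyRegular_singleton_iff _ _).2 ?_⟩
      rw [isSMulRegular_quotient_iff_mem_of_smul_mem]
      have hI : (Ideal.ofList (rs.map (algebraMap R S)) • (⊤ : Submodule S S)) =
          ((Ideal.ofList rs).map C).map (algebraMap R[X] S) := by
        rw [smul_eq_mul, Ideal.mul_top, Ideal.map_map, ← Ideal.map_ofList]
        rfl
      rw [hI]
      intro z hz
      obtain ⟨a, s, rfl⟩ := IsLocalization.exists_mk'_eq p.primeCompl z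
      rw [smul_eq_mul, IsLocalization.mul_mk'_eq_mk'_of_mul,
        IsLocalization.mk'_mem_map_algebraMap_iff p.primeCompl] at hz
      obtain ⟨t, ht, htm⟩ := hz
      rw [IsLocalization.mk'_mem_map_algebraMap_iff p.primeCompl]
      refine ⟨t, ht, ?_⟩
      let φ := Polynomial.mapRingHom (Ideal.Quotient.mk (Ideal.ofList rs))
      have hker : RingHom.ker φ = (Ideal.ofList rs).map C := by
        rw [Polynomial.ker_mapRingHom, Ideal.mk_ker]
      rw [← hker, RingHom.mem_ker] at htm ⊢
      rw [show t * (y * a) = y * (t * a) by ring, map_mul] at htm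
      exact (hy.map (Ideal.Quotient.mk (Ideal.ofList rs))).mul_right_eq_zero_iff.1 htm
    · intro r hr
      rcases List.mem_append.1 hr with h | h
      · exact hmem1 r h
      · rw [List.mem_singleton.1 h]
        exact hin y hyp
    · rw [hdim, List.length_append, List.length_map, List.length_singleton, Nat.cast_add,
        Nat.cast_one]
      refine (WithBot.coe_le_coe.2 hht).trans ?_
      rw [WithBot.coe_add, WithBot.coe_one, maximalIdeal_height_eq_ringKrullDim]
      gcongr

/-- A polynomial ring over a Cohen–Macaulay ring is Cohen–Macaulay. -/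
theorem isCohenMacaulayRing_polynomial (R : Type u) [CommRing R] [LocCoh.IsCohenMacaulayRing R] :
    LocCoh.IsCohenMacaulayRing R[X] := by
  refine ⟨fun p hp => ?_⟩
  let q := p.comap C
  let S := (Localization.AtPrime q)[X]
  let pc := Submonoid.map Polynomial.C.toMonoidHom q.primeCompl
  let : Algebra R[X] S := algebra R (Localization.AtPrime q)
  have : IsLocalization pc S := Polynomial.isLocalization _ _
  let pS := p.map (algebraMap R[X] S)
  have disj : Disjoint (pc : Set R[X]) (p : Set R[X]) := by
    simpa [pc, q] using! Set.disjoint_image_left.mpr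
      (Set.disjoint_compl_left_iff_subset.mpr (fun _ a ↦ a))
  have : pS.IsPrime := IsLocalization.isPrime_of_isPrime_disjoint pc _ _ ‹_› disj
  have : IsLocalization.AtPrime (Localization.AtPrime pS) p := by
    convert IsLocalization.isLocalization_isLocalization_atPrime_isLocalization pc
      (Localization.AtPrime pS) pS
    exact (IsLocalization.under_map_of_isPrime_disjoint pc _ ‹_› disj).symm
  have : LocCoh.IsCohenMacaulayLocalRing (Localization.AtPrime q) :=
    LocCoh.IsCohenMacaulayRing.isCohenMacaulayLocalRing_localization q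
  have eq : pS.comap C = maximalIdeal (Localization.AtPrime q) := by
    rw [← IsLocalization.map_under q.primeCompl _ (pS.comap C),
      ← IsLocalization.map_under q.primeCompl _ (maximalIdeal (Localization.AtPrime q))]
    simp only [Ideal.under_def, Ideal.comap_comap, S, pS]
    rw [← Polynomial.algebraMap_eq (R := Localization.AtPrime q),
      ← IsScalarTower.algebraMap_eq R (Localization.AtPrime q) (Localization.AtPrime q)[X],
      IsScalarTower.algebraMap_eq R R[X] (Localization.AtPrime q)[X], ← Ideal.comap_comap,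
      ← Ideal.under_def R[X], IsLocalization.under_map_of_isPrime_disjoint pc _ ‹_› disj]
    simp [q, ← Ideal.under_def, IsLocalization.AtPrime.under_maximalIdeal (Localization.AtPrime q) q]
  have := isCohenMacaulayLocalRing_atPrime_of_comap_eq_maximalIdeal _ pS eq
  let e := (IsLocalization.algEquiv p.primeCompl
    (Localization.AtPrime pS) (Localization.AtPrime p)).toRingEquiv
  exact @HB26.isCohenMacaulayLocalRing_of_ringEquiv _ _ _ _ e ‹_›

theorem isCohenMacaulayRing_of_ringEquiv {R S : Type u} [CommRing R] [CommRing S] (e : R ≃+* S)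
    [LocCoh.IsCohenMacaulayRing R] : LocCoh.IsCohenMacaulayRing S := by
  have := isNoetherianRing_of_ringEquiv R e
  refine ⟨fun p _ => ?_⟩
  have := LocCoh.IsCohenMacaulayRing.isCohenMacaulayLocalRing_localization (p.comap e.toRingHom)
  refine HB26.isCohenMacaulayLocalRing_of_ringEquiv
    (IsLocalization.ringEquivOfRingEquiv (Localization.AtPrime (p.comap e.toRingHom))
      (Localization.AtPrime p) e (M := (p.comap e.toRingHom).primeCompl) (T := p.primeCompl) ?_)
  ext x
  constructor
  · rintro ⟨y, hy, rfl⟩
    exact hy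
  · intro hx
    exact ⟨e.symm x, fun h => hx (by simpa using h), e.apply_symm_apply x⟩

theorem isCohenMacaulayRing_mvPolynomial (R : Type u) [CommRing R] [LocCoh.IsCohenMacaulayRing R] :
    ∀ n : ℕ, LocCoh.IsCohenMacaulayRing (MvPolynomial (Fin n) R)
  | 0 => isCohenMacaulayRing_of_ringEquiv (MvPolynomial.isEmptyAlgEquiv R (Fin 0)).symm.toRingEquiv
  | n + 1 =>
    have := isCohenMacaulayRing_mvPolynomial R n
    have := isCohenMacaulayRing_polynomial (MvPolynomial (Fin n) R)
    isCohenMacaulayRing_of_ringEquiv (MvPolynomial.finSuccEquiv R n).symm.toRingEquiv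

end GrothLib.CMPoly
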